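import Mathlib.RingTheory.GradedAlgebra.Basic
import Mathlib.RingTheory.GradedAlgebra.HomogeneousLocalization
import Mathlib.RingTheory.Algebraic.Basic
import Mathlib.RingTheory.Polynomial.UniqueFactorization
import Mathlib.RingTheory.UniqueFactorizationDomain.Kaplansky
import Mathlib.RingTheory.Localization.Ideal
import Mathlib.Tactic.LinearCombination

/-!
Unique factorisation descends from the homogeneous localisation at a prime of degree one.
-/

set_option autoImplicit false

noncomputable section

open Polynomial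

namespace Groth.L14.GradedUFD

universe u v

variable {K : Type u} [Field K] {R : Type v} [CommRing R] [IsDomain R] [Algebra K R]
variable (𝒜 : ℕ → Submodule K R) [GradedAlgebra 𝒜]

theorem transcendental {e : ℕ} (he : 0 < e) {s : R} (hs : s ∈ 𝒜 e) :
    Transcendental (HomogeneousLocalization.Away 𝒜 s) (algebraMap R (Localization.Away s) s) := by
  classical
  let L := Localization.Away s
  rw [transcendental_iff]
  intro p hp
  rcases eq_or_ne s 0 with hs0 | hs0
  · have : Subsingleton (Localization.Away s) :=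
      IsLocalization.subsingleton (M := Submonoid.powers s) ⟨1, by simp [hs0]⟩
    have : Subsingleton (HomogeneousLocalization.Away 𝒜 s) :=
      (HomogeneousLocalization.val_injective (𝒜 := 𝒜) _).subsingleton
    exact Subsingleton.elim _ _
  have hinj : Function.Injective (algebraMap R (Localization.Away s)) :=
    IsLocalization.injective _ (powers_le_nonZeroDivisors_of_noZeroDivisors hs0)
  have hex : ∀ i : ℕ, ∃ (n : ℕ) (g : R), g ∈ 𝒜 (n • e) ∧
      (p.coeff i).val * algebraMap R (Localization.Away s) (s ^ n) = algebraMap R _ g := by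
    intro i
    obtain ⟨n, g, hg, hx⟩ := HomogeneousLocalization.Away.mk_surjective 𝒜 hs (p.coeff i)
    refine ⟨n, g, hg, ?_⟩
    rw [← hx, HomogeneousLocalization.Away.val_mk, Localization.mk_eq_mk']
    exact IsLocalization.mk'_spec (Localization.Away s) g _
  choose n g hg hval using hex
  set N := ∑ i ∈ p.support, n i with hN
  let h : ℕ → R := fun i => if i ∈ p.support then g i * s ^ (N - n i) else 0
  have hh : ∀ i, h i ∈ 𝒜 (N * e) := by
    intro i
    simp only [h]
    split_ifs with hi
    · have hle : n i ≤ N := Finset.single_le_sum (f := n) (fun _ _ => Nat.zero_le _) hi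
      have h1 := SetLike.mul_mem_graded (hg i) (SetLike.pow_mem_graded (N - n i) hs)
      rwa [smul_eq_mul, smul_eq_mul, ← add_mul, Nat.add_sub_cancel' hle] at h1
    · exact zero_mem _
  have hsum : ∑ i ∈ p.support, h i * s ^ i = 0 := by
    apply hinj
    rw [map_sum, map_zero]
    have h2 := congrArg (· * algebraMap R (Localization.Away s) (s ^ N)) hp
    rw [aeval_eq_sum_range' (n := p.natDegree + 1) (by omega), zero_mul, Finset.sum_mul] at h2
    rw [← h2, eq_comm]
    refine Finset.sum_subset_zero_on_sdiff (fun i hi => Finset.mem_range.mpr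
      (Nat.lt_succ_of_le (le_natDegree_of_mem_supp i hi))) ?_ ?_ |>.symm
    · intro i hi
      simp only [Finset.mem_sdiff, mem_support_iff, not_not] at hi
      simp [hi.2, Algebra.smul_def]
    · intro i hi
      have hle : n i ≤ N := Finset.single_le_sum (f := n) (fun _ _ => Nat.zero_le _) hi
      simp only [h, if_pos hi, Algebra.smul_def, HomogeneousLocalization.algebraMap_apply]
      rw [map_mul, map_mul, ← hval i, show s ^ N = s ^ n i * s ^ (N - n i) by
        rw [← pow_add, Nat.add_sub_cancel' hle], map_mul, map_pow, map_pow, map_pow]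
      ring
  have hcomp : ∀ j ∈ p.support, h j = 0 := by
    intro j hj
    have hmem : ∀ i, h i * s ^ i ∈ 𝒜 (N * e + i * e) := fun i => by
      have := SetLike.mul_mem_graded (hh i) (SetLike.pow_mem_graded i hs)
      rwa [smul_eq_mul] at this
    have h3 := congrArg (GradedAlgebra.proj 𝒜 (N * e + j * e)) hsum
    rw [map_sum, map_zero, Finset.sum_eq_single_of_mem j hj] at h3
    · rw [GradedAlgebra.proj_apply, DirectSum.decompose_of_mem_same 𝒜 (hmem j)] at h3
      exact (mul_eq_zero.mp h3).resolve_right (pow_ne_zero _ hs0)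
    · intro i _ hij
      rw [GradedAlgebra.proj_apply]
      exact DirectSum.decompose_of_mem_ne 𝒜 (hmem i) fun e' =>
        hij (Nat.eq_of_mul_eq_mul_right he (Nat.add_left_cancel e'))
  refine Polynomial.ext fun i => ?_
  rw [coeff_zero]
  by_contra hi
  have hi' : i ∈ p.support := mem_support_iff.mpr hi
  have h4 := hcomp i hi'
  simp only [h, if_pos hi', mul_eq_zero, pow_eq_zero_iff', hs0, false_and, or_false] at h4
  have h5 := hval i
  rw [h4, map_zero] at h5
  have hu : IsUnit (algebraMap R (Localization.Away s) (s ^ n i)) := by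
    rw [map_pow]; exact (IsLocalization.Away.algebraMap_isUnit s).pow _
  rw [hu.mul_left_eq_zero] at h5
  exact hi (HomogeneousLocalization.val_injective (𝒜 := 𝒜) _ (by rw [h5, HomogeneousLocalization.val_zero]))

/-- A factorial ring between a domain and its localisation at a prime makes the domain factorial. -/
theorem ufm_of_intermediate {A : Type*} [CommRing A] [IsDomain A] [IsNoetherianRing A]
    {s : A} (hp : Prime s) {L : Type*} [CommRing L] [Algebra A L] [IsLocalization.Away s L]
    {T : Type*} [CommRing T] [IsDomain T] [UniqueFactorizationMonoid T] (φ : T →+* L)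
    (hφ : Function.Injective φ) (hcov : ∀ r, ∃ t, φ t = algebraMap A L r) :
    UniqueFactorizationMonoid A := by
  have hinj : Function.Injective (algebraMap A L) :=
    IsLocalization.injective _ (powers_le_nonZeroDivisors_of_noZeroDivisors hp.ne_zero)
  rw [UniqueFactorizationMonoid.iff_exists_prime_mem_of_isPrime]
  intro P hP hPp
  by_cases hsP : s ∈ P
  · exact ⟨s, hsP, hp⟩
  have hdisj : Disjoint (Submonoid.powers s : Set A) P := by
    rw [Set.disjoint_left]
    rintro _ ⟨n, rfl⟩ h
    exact hsP (hPp.mem_of_pow_mem n h)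
  have hPL : (P.map (algebraMap A L)).IsPrime :=
    IsLocalization.isPrime_of_isPrime_disjoint (Submonoid.powers s) L P hPp hdisj
  let Q : Ideal T := (P.map (algebraMap A L)).comap φ
  have hQp : Q.IsPrime := hPL.comap φ
  obtain ⟨p0, hp0, hp00⟩ := Submodule.exists_mem_ne_zero_of_ne_bot hP
  obtain ⟨t0, ht0⟩ := hcov p0
  have hQ : Q ≠ ⊥ := fun h => by
    have : t0 ∈ Q := by rw [Ideal.mem_comap, ht0]; exact Ideal.mem_map_of_mem _ hp0
    rw [h, Ideal.mem_bot] at this
    rw [this, map_zero] at ht0
    exact hp00 (hinj (by rw [← ht0, map_zero]))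
  obtain ⟨x, hxQ, hx⟩ := hQp.exists_mem_prime_of_ne_bot hQ
  obtain ⟨⟨⟨p₁, hp₁⟩, ⟨_, m, rfl⟩⟩, hxm⟩ :=
    (IsLocalization.mem_map_algebraMap_iff (Submonoid.powers s) L).mp (Ideal.mem_comap.mp hxQ)
  have hp₁0 : p₁ ≠ 0 := fun h => by
    simp only [h, map_zero] at hxm
    refine hx.ne_zero (hφ ?_)
    rw [map_zero]
    refine (IsUnit.mul_left_eq_zero ?_).mp hxm
    rw [map_pow]; exact (IsLocalization.Away.algebraMap_isUnit s).pow _
  obtain ⟨e, p, hsp, rfl⟩ := WfDvdMonoid.max_power_factor hp₁0 hp.irreducible
  have hpP : p ∈ P := (hPp.mem_or_mem hp₁).resolve_left fun h => hsP (hPp.mem_of_pow_mem e h)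
  have hp0' : p ≠ 0 := fun h => hsp (h ▸ dvd_zero s)
  have strip : ∀ n a, p ∣ s ^ n * a → p ∣ a := by
    intro n
    induction n with
    | zero => intro a ha; simpa using ha
    | succ n ih =>
      intro a ha
      rw [pow_succ, mul_assoc] at ha
      obtain ⟨c, hc⟩ := ih _ ha
      obtain ⟨c', rfl⟩ := (hp.dvd_or_dvd (a := p) (b := c) ⟨a, hc.symm⟩).resolve_left hsp
      exact ⟨c', mul_left_cancel₀ hp.ne_zero (by linear_combination hc)⟩
  simp only at hxm
  obtain ⟨τ, hτ⟩ := hcov s
  have hτQ : τ ∉ Q := fun h => by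
    rw [Ideal.mem_comap, hτ] at h
    exact hPL.ne_top (Ideal.eq_top_of_isUnit_mem _ h (IsLocalization.Away.algebraMap_isUnit s))
  refine ⟨p, hpP, hp0', fun hu => hPp.ne_top (Ideal.eq_top_of_isUnit_mem _ hpP hu), ?_⟩
  rintro a b ⟨d, hd⟩
  obtain ⟨ta, hta⟩ := hcov a
  obtain ⟨tb, htb⟩ := hcov b
  obtain ⟨td, htd⟩ := hcov d
  have h1 : x ∣ τ ^ e * (ta * tb) := ⟨τ ^ m * td, hφ (by
    simp only [map_mul, map_pow, hτ, hta, htb, htd]
    rw [← map_mul, hd, ← map_pow, ← map_mul, ← mul_assoc (φ x), ← map_pow, hxm, ← map_mul, mul_assoc])⟩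
  have back : ∀ (ta : T) (a : A), φ ta = algebraMap A L a → x ∣ ta → p ∣ a := by
    rintro ta a hta ⟨c, rfl⟩
    obtain ⟨⟨c', ⟨_, j, rfl⟩⟩, hc⟩ := IsLocalization.surj (Submonoid.powers s) (φ c)
    simp only at hc
    refine strip (m + j) a ⟨s ^ e * c', hinj ?_⟩
    rw [map_mul, pow_add, map_mul, ← hta, map_mul, map_mul, map_mul, ← hc]
    rw [map_mul, ← mul_assoc (algebraMap A L p)] at *
    linear_combination (φ c * algebraMap A L (s ^ j)) * hxm
  rcases hx.dvd_or_dvd h1 with h | h
  · exact absurd (hx.dvd_of_dvd_pow h) fun h' => hτQ (Q.mem_of_dvd h' hxQ)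
  · exact (hx.dvd_or_dvd h).imp (back ta a hta) (back tb b htb)

theorem ufm [IsNoetherianRing R] {s : R} (hs : s ∈ 𝒜 1) (hp : Prime s)
    (h : UniqueFactorizationMonoid (HomogeneousLocalization.Away 𝒜 s)) :
    UniqueFactorizationMonoid R := by
  classical
  let H := HomogeneousLocalization.Away 𝒜 s
  have : IsDomain (Localization.Away s) :=
    IsLocalization.isDomain_localization (powers_le_nonZeroDivisors_of_noZeroDivisors hp.ne_zero)
  have hHinj : Function.Injective (algebraMap H (Localization.Away s)) :=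
    HomogeneousLocalization.val_injective (𝒜 := 𝒜) _
  have : IsDomain H := hHinj.isDomain
  let φ : H[X] →+* Localization.Away s :=
    (aeval (algebraMap R (Localization.Away s) s) : H[X] →ₐ[H] Localization.Away s).toRingHom
  refine ufm_of_intermediate hp φ (transcendental_iff_injective.mp (transcendental 𝒜 Nat.one_pos hs)) fun r => ?_
  suffices ∀ r, algebraMap R (Localization.Away s) r ∈ φ.range from this r
  intro r
  rw [← DirectSum.sum_support_decompose 𝒜 r, map_sum]
  refine sum_mem fun i _ => ⟨Polynomial.C (HomogeneousLocalization.Away.mk 𝒜 hs i _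
    (by rw [smul_eq_mul, mul_one]; exact (DirectSum.decompose 𝒜 r i).2)) * X ^ i, ?_⟩
  show aeval _ _ = _
  rw [map_mul, aeval_C, map_pow, aeval_X, HomogeneousLocalization.algebraMap_apply,
    HomogeneousLocalization.Away.val_mk, Localization.mk_eq_mk', ← map_pow]
  exact IsLocalization.mk'_spec (Localization.Away s) _ _

end Groth.L14.GradedUFD
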